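import Mathlib
import Cfsg.Agent.Blocks.SylowNormalize
import Cfsg.Agent.Blocks.SingleDegree
import Cfsg.Agent.Blocks.ItoDegrees
import Cfsg.Agent.Blocks.Quotient
import Cfsg.Agent.Blocks.GlaubermanApi

/-!
# Characters of `p'`-degree whose degrees are prime to `q`
-/

set_option autoImplicit false
set_option linter.unusedSectionVars false
set_option linter.style.haveILetI false

namespace Cfsg.Lib.Blocks.CommSylow

open Cfsg.Lib.Chars Subgroup

universe u

variable {G : Type u} [Group G] [Finite G] {p q : ℕ}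

/-- Every degree prime to `p` is prime to `q`. -/
def Hyp (p q : ℕ) (G : Type u) [Group G] : Prop :=
  ∀ χ : Cfsg.IrrCharacter G, ¬ p ∣ deg (χ : G → ℂ) → ¬ q ∣ deg (χ : G → ℂ)

theorem Hyp.of_surjective {H : Type u} [Group H] [Finite H] (h : Hyp p q G) (f : G →* H)
    (hf : Function.Surjective f) : Hyp p q H := by
  intro χ hp
  have h1 := IsIrrCharacter.comp_surjective χ.2 f hf
  have h2 : deg (fun g => (χ : H → ℂ) (f g)) = deg (χ : H → ℂ) := by
    apply Nat.cast_injective (R := ℂ)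
    rw [← irr_apply_one_eq_deg ⟨_, h1⟩, ← irr_apply_one_eq_deg χ]
    exact congrArg (χ : H → ℂ) (map_one _)
  have h3 := h ⟨_, h1⟩
  rw [show deg ((⟨_, h1⟩ : Cfsg.IrrCharacter G) : G → ℂ) = _ from h2] at h3
  exact h3 hp

/-- A character of degree prime to `p` of a subgroup of index prime to `p` lies under one of degree
prime to `p`. -/
theorem exists_over_coprime [Fintype G] [hp : Fact p.Prime] (U : Subgroup G) [Fintype U]
    (hU : ¬ p ∣ U.index) {η : U → ℂ} (hη : Cfsg.IsIrrCharacter U η) (hd : ¬ p ∣ deg η) :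
    ∃ χ : Cfsg.IrrCharacter G, ¬ p ∣ deg (χ : G → ℂ) ∧
      Cfsg.classInner (fun y : U => (χ : G → ℂ) y) η ≠ 0 := by
  classical
  obtain ⟨a, ha⟩ := IsCharacter.exists_decomp (IsCharacter.indFun (G := G) (isCharacter_of_irr hη))
  have hsum : U.index * deg η = ∑ χ : Cfsg.IrrCharacter G, a χ * deg (χ : G → ℂ) := by
    apply Nat.cast_injective (R := ℂ)
    have h := congrFun ha 1
    rw [indFun_one] at h
    push_cast
    rw [show (deg η : ℂ) = η 1 from (irr_apply_one_eq_deg ⟨η, hη⟩).symm, h]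
    simp [Finset.sum_apply, irr_apply_one_eq_deg]
  obtain ⟨χ, hχa, hχd⟩ : ∃ χ : Cfsg.IrrCharacter G, a χ ≠ 0 ∧ ¬ p ∣ deg (χ : G → ℂ) := by
    by_contra hcon
    push Not at hcon
    refine hp.out.not_dvd_mul hU hd (hsum ▸ Finset.dvd_sum fun χ _ => ?_)
    by_cases h0 : a χ = 0
    · rw [h0, zero_mul]; exact dvd_zero p
    · exact (hcon χ h0).mul_left _
  refine ⟨χ, hχd, ?_⟩
  rw [← frobenius_reciprocity' U _ (isClassFunction_irr χ), ← classInner_conj_symm, ha]
  simp only [← Nat.cast_smul_eq_nsmul ℂ]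
  rw [classInner_irrSum (fun ψ => (a ψ : ℂ)) χ, Complex.conj_natCast]
  exact_mod_cast hχa

/-- The stabiliser of an extendible character of degree prime to `p` has index prime to `q`. -/
theorem inertia_index [Fintype G] [hp : Fact p.Prime] (h : Hyp p q G)
    (N : Subgroup G) [N.Normal] [Fintype N] (U : Subgroup G) [Fintype U] (hU : ¬ p ∣ U.index)
    (hNU : N ≤ U) {η : U → ℂ} (hη : Cfsg.IsIrrCharacter U η) {θ : N → ℂ}
    (hθ : Cfsg.IsIrrCharacter N θ) (hres : ∀ n : N, η (Subgroup.inclusion hNU n) = θ n)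
    (hd : ¬ p ∣ deg θ) :
    U ≤ inertia N θ ∧ ¬ q ∣ (inertia N θ).index := by
  classical
  have hclass := isClassFunction_irr (⟨η, hη⟩ : Cfsg.IrrCharacter U)
  refine ⟨fun x hx => mem_inertia.2 (funext fun n => ?_), ?_⟩
  · rw [conjN_eq_comp]
    show θ (MulAut.conjNormal x n) = θ n
    rw [← hres, ← hres]
    refine classFunction_eq_of_isConj hclass (isConj_iff.2 ⟨⟨x, hx⟩⁻¹, Subtype.ext ?_⟩)
    simp [MulAut.conjNormal_apply, mul_assoc]
  · have hdeg : deg η = deg θ := by
      apply Nat.cast_injective (R := ℂ)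
      rw [← irr_apply_one_eq_deg ⟨η, hη⟩, ← irr_apply_one_eq_deg ⟨θ, hθ⟩]
      show η 1 = θ 1
      rw [← hres, map_one]
    obtain ⟨χ, hχd, hχc⟩ := exists_over_coprime U hU hη (hdeg ▸ hd)
    have hc : Cfsg.classInner (fun n : N => (χ : G → ℂ) n) θ ≠ 0 := by
      obtain ⟨m, hm⟩ := IsCharacter.exists_decomp
        (IsCharacter.restrict (isCharacter_of_irr χ.2) U)
      have hmη : m ⟨η, hη⟩ ≠ 0 := by
        intro h0
        apply hχc
        rw [hm]
        simp only [← Nat.cast_smul_eq_nsmul ℂ]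
        rw [classInner_irrSum (fun ψ => (m ψ : ℂ)) ⟨η, hη⟩, h0, Nat.cast_zero]
      have hex : ∀ ψ : Cfsg.IrrCharacter U, ∃ k : ℕ,
          Cfsg.classInner (fun n : N => (ψ : U → ℂ) (Subgroup.inclusion hNU n)) θ = (k : ℂ) :=
        fun ψ => IsCharacter.exists_mult
          (IsCharacter.comp_hom (isCharacter_of_irr ψ.2) (Subgroup.inclusion hNU)) hθ
      choose k hk using hex
      have hk1 : k ⟨η, hη⟩ = 1 := by
        have := hk ⟨η, hη⟩
        rw [show (fun n : N => η (Subgroup.inclusion hNU n)) = θ from funext hres,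
          classInner_irrChar hθ hθ, if_pos rfl] at this
        exact_mod_cast this.symm
      have he : (fun n : N => (χ : G → ℂ) n) =
          ∑ ψ : Cfsg.IrrCharacter U, (m ψ : ℂ) • fun n : N => (ψ : U → ℂ) (Subgroup.inclusion hNU n) := by
        funext n
        have := congrFun hm (Subgroup.inclusion hNU n)
        simpa [Finset.sum_apply, Nat.cast_smul_eq_nsmul] using this
      rw [he, classInner_sum_left]
      simp only [classInner_smul_left, hk]
      rw [← Nat.cast_zero, ← (Finset.sum_congr rfl fun ψ _ => Nat.cast_mul (m ψ) (k ψ) :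
        ∑ ψ, ((m ψ * k ψ : ℕ) : ℂ) = _), ← Nat.cast_sum, Ne, Nat.cast_inj]
      refine fun h0 => hmη ?_
      have := Finset.sum_eq_zero_iff.1 h0 ⟨η, hη⟩ (Finset.mem_univ _)
      rwa [hk1, mul_one] at this
    obtain ⟨e, he⟩ := deg_eq_mult_orbit N χ.2 hθ hc
    intro hq
    refine h χ hχd ?_
    have h1 := card_conjOrbit N θ
    rw [← (inertia N θ).index_mul_card] at h1
    rw [← Nat.eq_of_mul_eq_mul_right Nat.card_pos h1] at hq
    rw [he]
    exact dvd_mul_of_dvd_right (dvd_mul_of_dvd_left hq _) e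

/-- An invariant character of a normal `p'`-subgroup extends to its join with a `p`-subgroup. -/
theorem exists_extension [Fintype G] [hp : Fact p.Prime] (N : Subgroup G) [N.Normal] [Fintype N]
    (hN : (Nat.card N).Coprime p) (P : Subgroup G) (hP : IsPGroup p P)
    (θ : Cfsg.IrrCharacter N) (hinv : ∀ x ∈ P, conjN N x (θ : N → ℂ) = θ)
    [Fintype (N ⊔ P : Subgroup G)] :
    ∃ η : Cfsg.IrrCharacter (N ⊔ P : Subgroup G), ∀ n : N,
      (η : (N ⊔ P : Subgroup G) → ℂ) (Subgroup.inclusion le_sup_left n) = (θ : N → ℂ) n := by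
  classical
  set U : Subgroup G := N ⊔ P with hU
  haveI : (N.subgroupOf U).Normal := Subgroup.normal_subgroupOf
  haveI := Fintype.ofFinite (N.subgroupOf U)
  set e := Subgroup.subgroupOfEquivOfLe (le_sup_left : N ≤ U) with he
  set θ' := irrEquiv e θ with hθ'
  have hnd : ¬ p ∣ Nat.card N := hp.out.coprime_iff_not_dvd.1 hN.symm
  have hgen : Subgroup.closure {x : N.subgroupOf U | (orderOf x).Coprime p} = ⊤ := by
    refine top_le_iff.1 fun x _ => Subgroup.subset_closure ?_
    refine Nat.Coprime.coprime_dvd_left (orderOf_dvd_natCard x) ?_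
    rwa [Nat.card_congr e.toEquiv]
  obtain ⟨m, hm⟩ := IsPGroup.iff_card.1 hP
  have hidx : ∃ k, (N.subgroupOf U).index = p ^ k := by
    have hd : (N.subgroupOf U).index ∣ p ^ m := by
      rw [← hm]
      show N.relIndex U ∣ _
      rw [hU, sup_comm, Subgroup.relIndex_sup_right]
      exact Subgroup.relIndex_dvd_card _ _
    obtain ⟨j, -, hj⟩ := (Nat.dvd_prime_pow hp.out).1 hd
    exact ⟨j, hj⟩
  have hinv' : ∀ g : U, conjN (N.subgroupOf U) g (θ' : N.subgroupOf U → ℂ) = θ' := by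
    intro g
    obtain ⟨a, ha, b, hb, hab⟩ := Subgroup.mem_sup_of_normal_left.1 g.2
    have hg : conjN N (g : G) (θ : N → ℂ) = θ := by
      rw [← hab, conjN_mul, conjN_of_mem (isClassFunction_irr θ) ⟨a, ha⟩, hinv b hb]
    funext n
    have := congrFun hg (e n)
    simp only [conjN] at this ⊢
    rw [hθ', irrEquiv_apply, irrEquiv_apply, ← this]
    exact congrArg _ (Subtype.ext rfl)
  obtain ⟨k, hk⟩ := hidx
  have hd : ¬ p ∣ deg (θ' : N.subgroupOf U → ℂ) := fun hd =>
    hnd ((hd.trans (IsIrrCharacter.deg_dvd θ'.2)).trans (dvd_of_eq (Nat.card_congr e.toEquiv)))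
  obtain ⟨η, ⟨hη, hηN, -⟩, -⟩ := exists_canonical_extension (N.subgroupOf U) θ'.2 hinv'
    (irr_apply_one_eq_deg θ') (by
      rw [hk]
      exact Nat.Coprime.pow_left k (hp.out.coprime_iff_not_dvd.2
        (hp.out.not_dvd_mul (SingleDegree.not_dvd_detOrder hgen θ'.2) hd)))
  refine ⟨⟨η, hη⟩, fun n => ?_⟩
  have := hηN (e.symm n)
  rw [hθ', irrEquiv_apply, MulEquiv.apply_symm_apply] at this
  rw [← this]
  exact congrArg η (Subtype.ext rfl)

/-- A subgroup of index prime to `q` containing `P` contains a `P`-invariant Sylow `q`-subgroup,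
when the Sylow `q`-subgroups lie in a normal `p'`-subgroup. -/
theorem exists_invariant_sylow_le [hp : Fact p.Prime] [hq : Fact q.Prime] (K : Subgroup G)
    [K.Normal] (hKp : (Nat.card K).Coprime p) (hKq : ¬ q ∣ K.index) (P : Subgroup G)
    (hP : IsPGroup p P) (T : Subgroup G) (hPT : P ≤ T) (hT : ¬ q ∣ T.index) :
    ∃ Q : Sylow q G, P ≤ normalizer ((Q : Subgroup G) : Set G) ∧
      (Q : Subgroup G) ≤ T ∧ (Q : Subgroup G) ≤ K := by
  haveI := hP.isNilpotent
  obtain ⟨m, hm⟩ := IsPGroup.iff_card.1 hP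
  have hPn : P ≤ normalizer ((T ⊓ K : Subgroup G) : Set G) :=
    Coprime.le_normalizer_inf (hPT.trans le_normalizer) le_normalizer_of_normal
  have hidx : ¬ q ∣ (T ⊓ K).index := by
    rw [← Subgroup.relIndex_mul_index (inf_le_left : T ⊓ K ≤ T), inf_relIndex_left]
    exact hq.out.not_dvd_mul (fun h => hKq (h.trans (Subgroup.relIndex_dvd_index_of_normal K T))) hT
  obtain ⟨R, hR⟩ := Coprime.exists_invariant_sylow (A := P) (K := T ⊓ K) hPn
    (by rw [hm]; exact ((hKp.coprime_dvd_left (Subgroup.card_dvd_of_le inf_le_right)).symm).pow_left m)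
    (.inl inferInstance) q
  have hc : Nat.card ((R : Subgroup (T ⊓ K : Subgroup G)).map (T ⊓ K).subtype) =
      q ^ (Nat.card G).factorization q := by
    rw [Subgroup.card_map_of_injective (T ⊓ K).subtype_injective, Sylow.card_eq_multiplicity,
      ← (T ⊓ K).card_mul_index, Nat.factorization_mul Nat.card_pos.ne' (T ⊓ K).index_ne_zero_of_finite,
      Finsupp.add_apply, Nat.factorization_eq_zero_of_not_dvd hidx, add_zero]
  refine ⟨Sylow.ofCard _ hc, ?_, ?_, ?_⟩
  · rw [Sylow.coe_ofCard]; exact hR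
  · rw [Sylow.coe_ofCard]; exact (map_subtype_le _).trans inf_le_left
  · rw [Sylow.coe_ofCard]; exact (map_subtype_le _).trans inf_le_right

/-- Points fixed by a coprime group and conjugate are conjugate by a fixed element. -/
theorem isConj_fixed (N A : Subgroup G) (hAN : A ≤ normalizer (N : Set G))
    (hcop : (Nat.card A).Coprime (Nat.card N)) (hsol : Group.IsSolvable A)
    {x k : G} (hx : x ∈ centralizer (A : Set G)) (hk : k ∈ N)
    (hy : k * x * k⁻¹ ∈ centralizer (A : Set G)) :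
    ∃ c ∈ N ⊓ centralizer (A : Set G), c * x * c⁻¹ = k * x * k⁻¹ := by
  set D := N ⊓ centralizer ({x} : Set G) with hD
  have hAx : A ≤ centralizer ({x} : Set G) := fun a ha =>
    mem_centralizer_singleton_iff.2 (mem_centralizer_iff.1 hx a ha)
  have hAD : A ≤ normalizer (D : Set G) := Coprime.le_normalizer_inf hAN (hAx.trans le_normalizer)
  obtain ⟨d, hd, hc⟩ := Coprime.exists_fixed_in_coset hAD
    (hcop.coprime_dvd_right (Subgroup.card_dvd_of_le inf_le_left)) (.inl hsol) (k := k) (by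
      intro a ha
      refine ⟨?_, ?_⟩
      · show k⁻¹ * a * k * a⁻¹ ∈ N
        rw [show k⁻¹ * a * k * a⁻¹ = k⁻¹ * (a * k * a⁻¹) by group]
        exact mul_mem (inv_mem hk) ((mem_normalizer_iff.mp (hAN ha) _).mp hk)
      · show k⁻¹ * a * k * a⁻¹ ∈ centralizer ({x} : Set G)
        rw [mem_centralizer_singleton_iff]
        have h1 : Commute a x := mem_centralizer_iff.1 hx a ha
        have h2 : Commute a (k * x * k⁻¹) := mem_centralizer_iff.1 hy a ha
        have h3 : Commute (k⁻¹ * a * k) x := by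
          show k⁻¹ * a * k * x = x * (k⁻¹ * a * k)
          calc k⁻¹ * a * k * x = k⁻¹ * (a * (k * x * k⁻¹)) * k := by group
            _ = k⁻¹ * ((k * x * k⁻¹) * a) * k := by rw [h2.eq]
            _ = _ := by group
        exact (h3.mul_left h1.inv_left).eq)
  refine ⟨k * d, ⟨mul_mem hk hd.1, hc⟩, ?_⟩
  have hdx : d * x * d⁻¹ = x := by
    rw [mem_centralizer_singleton_iff.1 hd.2, mul_inv_cancel_right]
  calc k * d * x * (k * d)⁻¹ = k * (d * x * d⁻¹) * k⁻¹ := by group
    _ = _ := by rw [hdx]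

/-- An invariant class has a fixed point. -/
theorem exists_fixed_conj {r : ℕ} [hr : Fact r.Prime] (N A : Subgroup G)
    (hAN : A ≤ normalizer (N : Set G)) (hA : IsPGroup r A) (hN : ¬ r ∣ Nat.card N) {c : G}
    (hc : c ∈ N) (hcls : ∀ a ∈ A, ∃ n ∈ N, n * c * n⁻¹ = a * c * a⁻¹) :
    ∃ n ∈ N, n * c * n⁻¹ ∈ centralizer (A : Set G) := by
  classical
  let T := {m : N // IsConj (⟨c, hc⟩ : N) m}
  have hmem : ∀ (a : A) (m : T), IsConj (⟨c, hc⟩ : N)
      ⟨(a : G) * (m.1 : G) * (a : G)⁻¹, (mem_normalizer_iff.1 (hAN a.2) _).1 m.1.2⟩ := by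
    intro a m
    obtain ⟨k, hk⟩ := isConj_iff.1 m.2
    obtain ⟨n, hn, hna⟩ := hcls a a.2
    have hk' : (k : G) * c * (k : G)⁻¹ = (m.1 : G) := congrArg Subtype.val hk
    refine isConj_iff.2 ⟨⟨(a : G) * (k : G) * (a : G)⁻¹, (mem_normalizer_iff.1 (hAN a.2) _).1 k.2⟩ *
      ⟨n, hn⟩, Subtype.ext ?_⟩
    show (a : G) * k * (a : G)⁻¹ * n * c * ((a : G) * k * (a : G)⁻¹ * n)⁻¹ = a * (m.1 : G) * (a : G)⁻¹
    calc _ = (a : G) * k * (a : G)⁻¹ * (n * c * n⁻¹) * a * (k : G)⁻¹ * (a : G)⁻¹ := by group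
      _ = (a : G) * ((k : G) * c * (k : G)⁻¹) * (a : G)⁻¹ := by rw [hna]; group
      _ = _ := by rw [hk']
  letI : MulAction A T :=
    { smul := fun a m => ⟨⟨(a : G) * (m.1 : G) * (a : G)⁻¹,
        (mem_normalizer_iff.1 (hAN a.2) _).1 m.1.2⟩, hmem a m⟩
      one_smul := fun m => Subtype.ext (Subtype.ext (by
        show ((1 : A) : G) * (m.1 : G) * ((1 : A) : G)⁻¹ = m.1
        simp))
      mul_smul := fun a b m => Subtype.ext (Subtype.ext (by
        show ((a * b : A) : G) * (m.1 : G) * ((a * b : A) : G)⁻¹ =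
          (a : G) * ((b : G) * (m.1 : G) * (b : G)⁻¹) * (a : G)⁻¹
        simp [mul_assoc])) }
  obtain ⟨⟨m, hm⟩, hmfix⟩ : (MulAction.fixedPoints A T).Nonempty := by
    refine hA.nonempty_fixed_point_of_prime_not_dvd_card T fun h => hN ?_
    rw [← card_isConj_mul (⟨c, hc⟩ : N)]
    exact dvd_mul_of_dvd_left h _
  obtain ⟨k, hk⟩ := isConj_iff.1 hm
  refine ⟨k, k.2, mem_centralizer_iff.2 fun a ha => ?_⟩
  have hk' : (k : G) * c * (k : G)⁻¹ = (m : G) := congrArg Subtype.val hk
  rw [hk']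
  have h1 := congrArg (fun z : T => ((z.1 : N) : G)) (hmfix ⟨a, ha⟩)
  exact mul_inv_eq_iff_eq_mul.1 h1

end Cfsg.Lib.Blocks.CommSylow
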