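import Mathlib
import Cfsg.Agent.Blocks.CommSylow.Basic
import Cfsg.Agent.S4445

/-!
# The invariant Sylow `q`-subgroup is unique
-/

set_option autoImplicit false
set_option linter.unusedSectionVars false
set_option linter.style.haveILetI false

namespace Cfsg.Lib.Blocks.CommSylow

open Cfsg.Lib.Chars Subgroup

universe u

variable {G : Type u} [Group G] [Finite G] {p q : ℕ}

/-- A normaliser normalises the centraliser. -/
theorem normalizer_le_normalizer_centralizer (Q : Subgroup G) :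
    normalizer (Q : Set G) ≤ normalizer (centralizer (Q : Set G) : Set G) := by
  intro g hg
  rw [mem_normalizer_iff] at hg ⊢
  intro x
  simp only [mem_centralizer_iff, SetLike.mem_coe]
  constructor
  · intro hx a ha
    have h1 : g⁻¹ * a * g ∈ Q := (hg _).2 (by simpa [mul_assoc] using ha)
    calc a * (g * x * g⁻¹) = g * ((g⁻¹ * a * g) * x) * g⁻¹ := by group
      _ = g * (x * (g⁻¹ * a * g)) * g⁻¹ := by rw [hx _ h1]
      _ = _ := by group
  · intro hx a ha
    calc a * x = g⁻¹ * ((g * a * g⁻¹) * (g * x * g⁻¹)) * g := by group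
      _ = g⁻¹ * ((g * x * g⁻¹) * (g * a * g⁻¹)) * g := by rw [hx _ ((hg a).1 ha)]
      _ = _ := by group

/-- Fixed points of `P` are fixed by `Q` when invariant characters of `P` are invariant under `Q`. -/
theorem centralizer_le [Fintype G] [hp : Fact p.Prime] [hq : Fact q.Prime] (hpq : p ≠ q) (N : Subgroup G) [N.Normal] [Fintype N]
    (hNp : ¬ p ∣ Nat.card N) (hNq : ¬ q ∣ Nat.card N) (P Q : Subgroup G)
    (hP : IsPGroup p P) (hQ : IsPGroup q Q) (hPQ : P ≤ normalizer (Q : Set G))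
    (hinv : ∀ θ : Cfsg.IrrCharacter N, (∀ x ∈ P, conjN N x (θ : N → ℂ) = θ) →
      ∀ x ∈ Q, conjN N x (θ : N → ℂ) = θ) :
    N ⊓ centralizer (P : Set G) ≤ centralizer (Q : Set G) := by
  classical
  haveI := hP.isNilpotent
  haveI := hQ.isNilpotent
  have hPsol : Group.IsSolvable P := inferInstance
  have hQsol : Group.IsSolvable Q := inferInstance
  obtain ⟨mp, hmp⟩ := IsPGroup.iff_card.1 hP
  obtain ⟨mq, hmq⟩ := IsPGroup.iff_card.1 hQ
  have hcP : (Nat.card P).Coprime (Nat.card N) := by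
    rw [hmp]; exact (hp.out.coprime_iff_not_dvd.2 hNp).pow_left mp
  have hcQ : (Nat.card Q).Coprime (Nat.card N) := by
    rw [hmq]; exact (hq.out.coprime_iff_not_dvd.2 hNq).pow_left mq
  set S : Subgroup G := Q ⊔ P with hS
  have hPQc : (Nat.card Q).Coprime (Nat.card P) := by
    rw [hmp, hmq]; exact ((Nat.coprime_primes hq.out hp.out).2 hpq.symm).pow mq mp
  have hcS : (Nat.card N).Coprime (Nat.card S) := by
    rw [hS, Coprime.card_sup_coprime hPQ hPQc]
    exact Nat.Coprime.mul_right hcQ.symm hcP.symm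
  have hSsol : Group.IsSolvable S := by
    haveI : (Q.subgroupOf S).Normal := by
      refine ⟨fun x hx g => ?_⟩
      rw [mem_subgroupOf] at hx ⊢
      have hg : (g : G) ∈ normalizer (Q : Set G) := (sup_le le_normalizer hPQ) g.2
      simpa using (mem_normalizer_iff.1 hg _).1 hx
    haveI : Group.IsSolvable (Q.subgroupOf S) :=
      Group.isSolvable_of_isSolvable_injective
        (f := (Subgroup.subgroupOfEquivOfLe (le_sup_left : Q ≤ S)).toMonoidHom)
        (Subgroup.subgroupOfEquivOfLe (le_sup_left : Q ≤ S)).injective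
    have hpq' : IsPGroup p (S ⧸ Q.subgroupOf S) := by
      refine IsPGroup.of_card (n := mp) ?_
      rw [← Subgroup.index_eq_card]
      show Q.relIndex S = _
      apply Nat.eq_of_mul_eq_mul_left (Nat.card_pos (α := Q))
      rw [← hmp, ← Coprime.card_sup_coprime hPQ hPQc, ← hS]
      conv_lhs => rw [← relIndex_bot_left, relIndex_mul_relIndex _ _ _ bot_le (le_sup_left : Q ≤ S)]
      rw [relIndex_bot_left]
    haveI := hpq'.isNilpotent
    exact Group.isSolvable_of_ker_le_range (Q.subgroupOf S).subtype (QuotientGroup.mk' (Q.subgroupOf S))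
      (by rw [QuotientGroup.ker_mk', Subgroup.range_subtype])
  have hnorm : ∀ (A : Subgroup G), ∀ a ∈ A, ∀ g ∈ N, a * g * a⁻¹ ∈ N :=
    fun A a _ g hg => Subgroup.Normal.conj_mem inferInstance g hg a
  have hiff : ∀ (A : Subgroup G) (θ : Cfsg.IrrCharacter N),
      (∀ s ∈ A, ∀ g g' : N, (g' : G) = s * g * s⁻¹ → (θ : N → ℂ) g' = (θ : N → ℂ) g) ↔
        ∀ x ∈ A, conjN N x (θ : N → ℂ) = θ := by
    intro A θ
    refine ⟨fun h x hx => funext fun n => ?_, fun h s hs g g' e => ?_⟩
    · rw [conjN_eq_comp]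
      exact h x hx n _ (by simp [MulAut.conjNormal_apply])
    · have := congrFun (h s hs) g
      rw [conjN_eq_comp] at this
      rw [← this]
      show _ = (θ : N → ℂ) (MulAut.conjNormal s g)
      exact congrArg _ (Subtype.ext (e.trans (MulAut.conjNormal_apply (H := N) s g).symm))
  have hS1 : ∀ θ : Cfsg.IrrCharacter N, (∀ x ∈ P, conjN N x (θ : N → ℂ) = θ) →
      ∀ x ∈ S, conjN N x (θ : N → ℂ) = θ := fun θ h x hx =>
    mem_inertia.1 ((sup_le (fun y hy => mem_inertia.2 (hinv θ h y hy))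
      (fun y hy => mem_inertia.2 (h y hy)) : S ≤ inertia N (θ : N → ℂ)) hx)
  have e1 := Cfsg.Agent.S4445.result N P (hnorm P) hcP.symm hPsol
  have e2 := Cfsg.Agent.S4445.result N S (hnorm S) hcS hSsol
  have e3 : Nat.card {θ : Cfsg.IrrCharacter N //
      ∀ s ∈ S, ∀ g g' : N, (g' : G) = s * g * s⁻¹ → (θ : N → ℂ) g' = (θ : N → ℂ) g} =
    Nat.card {θ : Cfsg.IrrCharacter N //
      ∀ s ∈ P, ∀ g g' : N, (g' : G) = s * g * s⁻¹ → (θ : N → ℂ) g' = (θ : N → ℂ) g} :=
    Nat.card_congr (Equiv.subtypeEquivRight fun θ =>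
      ⟨fun h s hs => h s (Subgroup.mem_sup_right hs), fun h => (hiff S θ).2 (hS1 θ ((hiff P θ).1 h))⟩)
  rw [e1, e2] at e3
  set ι : {K : ConjClasses N // ∀ s ∈ S, ∀ g g' : N, (g' : G) = s * g * s⁻¹ →
      ConjClasses.mk g = K → ConjClasses.mk g' = K} →
    {K : ConjClasses N // ∀ s ∈ P, ∀ g g' : N, (g' : G) = s * g * s⁻¹ →
      ConjClasses.mk g = K → ConjClasses.mk g' = K} :=
    fun K => ⟨K.1, fun s hs => K.2 s (Subgroup.mem_sup_right hs)⟩ with hι
  have hsurj : Function.Surjective ι :=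
    ((Nat.bijective_iff_injective_and_card ι).2
      ⟨fun a b h => by
        have := congrArg Subtype.val h
        exact Subtype.ext this, e3⟩).2
  -- each class of the fixed points of `P` meets those of `Q`
  set C : Subgroup G := N ⊓ centralizer (P : Set G) with hC
  have htop : (centralizer (Q : Set G)).subgroupOf C = ⊤ := by
    refine eq_top_of_meets _ fun x => ?_
    obtain ⟨⟨K, hK⟩, hKx⟩ := hsurj ⟨ConjClasses.mk ⟨x, x.2.1⟩, fun s hs g g' e hg => by
      rw [← hg]
      obtain ⟨k, hk⟩ := isConj_iff.1 (ConjClasses.mk_eq_mk_iff_isConj.1 hg)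
      have hk' : (k : G) * (g : G) * (k : G)⁻¹ = x := congrArg Subtype.val hk
      have hxs : s * (x : G) * s⁻¹ = x := mul_inv_eq_iff_eq_mul.2 (mem_centralizer_iff.1 x.2.2 s hs)
      refine ConjClasses.mk_eq_mk_iff_isConj.2 (isConj_iff.2
        ⟨k⁻¹ * ⟨s * (k : G) * s⁻¹, Subgroup.Normal.conj_mem inferInstance _ k.2 s⟩, Subtype.ext ?_⟩)
      show (k : G)⁻¹ * (s * k * s⁻¹) * g' * ((k : G)⁻¹ * (s * k * s⁻¹))⁻¹ = g
      rw [e]
      calc _ = (k : G)⁻¹ * (s * ((k : G) * g * (k : G)⁻¹) * s⁻¹) * k := by group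
        _ = _ := by rw [hk', hxs, ← hk']; group⟩
    have hK' : ∀ s ∈ S, ∀ g g' : N, (g' : G) = s * g * s⁻¹ →
        ConjClasses.mk g = ConjClasses.mk (⟨x, x.2.1⟩ : N) →
        ConjClasses.mk g' = ConjClasses.mk (⟨x, x.2.1⟩ : N) := by
      have := congrArg Subtype.val hKx
      change K = _ at this
      rwa [this] at hK
    have hcls : ∀ a ∈ S, ∃ n ∈ N, n * (x : G) * n⁻¹ = a * x * a⁻¹ := by
      intro a ha
      obtain ⟨n, hn⟩ := isConj_iff.1 (ConjClasses.mk_eq_mk_iff_isConj.1
        (hK' a ha ⟨x, x.2.1⟩ ⟨a * x * a⁻¹, Subgroup.Normal.conj_mem inferInstance _ x.2.1 a⟩ rfl rfl).symm)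
      exact ⟨n, n.2, congrArg Subtype.val hn⟩
    obtain ⟨n0, hn0, hd0⟩ := exists_fixed_conj N Q le_normalizer_of_normal hQ hNq x.2.1
      fun a ha => hcls a (Subgroup.mem_sup_left ha)
    set d0 := n0 * (x : G) * n0⁻¹ with hd0def
    have hd0N : d0 ∈ N := Subgroup.Normal.conj_mem inferInstance _ x.2.1 n0
    set N' : Subgroup G := N ⊓ centralizer (Q : Set G) with hN'
    have hPN' : P ≤ normalizer (N' : Set G) :=
      Coprime.le_normalizer_inf le_normalizer_of_normal (hPQ.trans (normalizer_le_normalizer_centralizer _))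
    obtain ⟨n1, hn1, hd1⟩ := exists_fixed_conj N' P hPN' hP
      (fun h => hNp (h.trans (Subgroup.card_dvd_of_le inf_le_left))) (c := d0) ⟨hd0N, hd0⟩ (fun a ha => by
        obtain ⟨n, hn, hna⟩ := hcls a (Subgroup.mem_sup_right ha)
        have hmem : a * d0 * a⁻¹ ∈ centralizer (Q : Set G) :=
          (mem_normalizer_iff.1 ((hPQ.trans (normalizer_le_normalizer_centralizer _)) ha) _).1 hd0
        have hk : a * n0 * a⁻¹ * n * n0⁻¹ ∈ N :=
          mul_mem (mul_mem (Subgroup.Normal.conj_mem inferInstance _ hn0 a) hn) (inv_mem hn0)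
        have e : a * n0 * a⁻¹ * n * n0⁻¹ * d0 * (a * n0 * a⁻¹ * n * n0⁻¹)⁻¹ = a * d0 * a⁻¹ := by
          calc _ = a * n0 * a⁻¹ * (n * (x : G) * n⁻¹) * (a * n0 * a⁻¹)⁻¹ := by rw [hd0def]; group
            _ = _ := by rw [hna, hd0def]; group
        obtain ⟨c, hc, hce⟩ := isConj_fixed N Q le_normalizer_of_normal hcQ hQsol hd0 hk (by rw [e]; exact hmem)
        exact ⟨c, hc, by rw [hce, e]⟩)
    have hd1Q : n1 * d0 * n1⁻¹ ∈ centralizer (Q : Set G) :=
      mul_mem (mul_mem hn1.2 hd0) (inv_mem hn1.2)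
    have e : n1 * n0 * (x : G) * (n1 * n0)⁻¹ = n1 * d0 * n1⁻¹ := by rw [hd0def]; group
    obtain ⟨c, hc, hce⟩ := isConj_fixed N P le_normalizer_of_normal hcP hPsol x.2.2
      (mul_mem hn1.1 hn0) (by rw [e]; exact hd1)
    refine ⟨⟨c⁻¹, inv_mem hc⟩, ?_⟩
    rw [mem_subgroupOf]
    show c⁻¹⁻¹ * (x : G) * c⁻¹ ∈ _
    rw [inv_inv, hce, e]
    exact hd1Q
  exact subgroupOf_eq_top.1 htop

/-- The `P`-invariant Sylow `q`-subgroup of a normal `p'`-subgroup is unique. -/
theorem eq_of_invariant [hp : Fact p.Prime] [hq : Fact q.Prime] (hpq : p ≠ q) :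
    ∀ (n : ℕ) (G : Type u) [Group G] [Finite G], Nat.card G = n → Cfsg.IsPSolvable q G → Hyp p q G →
      ∀ (K : Subgroup G) [K.Normal], (Nat.card K).Coprime p → ¬ q ∣ K.index →
      ∀ (P : Sylow p G) (Q1 Q2 : Sylow q G),
        (P : Subgroup G) ≤ normalizer ((Q1 : Subgroup G) : Set G) →
        (P : Subgroup G) ≤ normalizer ((Q2 : Subgroup G) : Set G) → Q1 = Q2 := by
  classical
  intro n
  induction n using Nat.strong_induction_on with
  | _ n ih => ?_
  intro G _ _ hn hsol hH K _ hKp hKq P Q1 Q2 h1 h2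
  by_cases hK : K = ⊥
  · have hb : ∀ Q : Sylow q G, (Q : Subgroup G) = ⊥ := fun Q => by
      apply Subgroup.eq_bot_of_card_eq
      rw [hK, Subgroup.index_bot] at hKq
      rw [Sylow.card_eq_multiplicity, Nat.factorization_eq_zero_of_not_dvd hKq, pow_zero]
    exact Sylow.ext (by rw [hb, hb])
  -- a normal `q`- or `q'`-subgroup inside `K`
  obtain ⟨N, hN, hNK, hN1, hNc⟩ : ∃ N : Subgroup G, N.Normal ∧ N ≤ K ∧ N ≠ ⊥ ∧
      (IsPGroup q N ∨ ¬ q ∣ Nat.card N) := by
    obtain ⟨l, H, h0, hl, hmono, hnH, hstep⟩ := hsol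
    have key : ∀ i, H i ⊓ K = ⊥ ∨ ∃ N : Subgroup G, N.Normal ∧ N ≤ K ∧ N ≠ ⊥ ∧
        (IsPGroup q N ∨ ¬ q ∣ Nat.card N) := by
      intro i
      induction i using Fin.induction with
      | zero => exact .inl (by rw [h0, bot_inf_eq])
      | succ i ihi =>
        rcases ihi with ihi | ihi
        · by_cases hb : H i.succ ⊓ K = ⊥
          · exact .inl hb
          · haveI := hnH i.succ
            refine .inr ⟨H i.succ ⊓ K, Subgroup.normal_inf_normal _ _, inf_le_right, hb, ?_⟩
            haveI := hnH i.castSucc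
            have hd : Nat.card (H i.succ ⊓ K : Subgroup G) ∣ (H i.castSucc).relIndex (H i.succ) := by
              have e : H i.castSucc ⊓ (H i.succ ⊓ K) = ⊥ := by
                rw [← inf_assoc, inf_eq_left.2 (hmono (Fin.castSucc_le_succ i)), ihi]
              rw [← relIndex_bot_left, ← e, inf_relIndex_right,
                ← relIndex_subgroupOf (inf_le_left : H i.succ ⊓ K ≤ H i.succ)]
              haveI : ((H i.castSucc).subgroupOf (H i.succ)).Normal := Subgroup.normal_subgroupOf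
              exact Subgroup.relIndex_dvd_index_of_normal _ _
            rcases hstep i with ⟨m, hm⟩ | hm
            · rw [hm] at hd
              obtain ⟨j, -, hj⟩ := (Nat.dvd_prime_pow hq.out).1 hd
              exact .inl (IsPGroup.of_card hj)
            · exact .inr fun h => hq.out.one_lt.ne'
                (Nat.eq_one_of_dvd_coprimes hm (h.trans hd) dvd_rfl)
        · exact .inr ihi
    rcases key (Fin.last l) with h | h
    · exact absurd (by rwa [hl, top_inf_eq] at h) hK
    · exact h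
  haveI := hN
  letI := Fintype.ofFinite G
  letI := Fintype.ofFinite N
  have hlt : Nat.card (G ⧸ N) < n := hn ▸ Coprime.card_quotient_lt hN1
  set π := QuotientGroup.mk' N with hπ
  have hπs : Function.Surjective π := QuotientGroup.mk'_surjective N
  haveI : (K.map π).Normal := Subgroup.Normal.map inferInstance π hπs
  have huniq : ∀ A B : Sylow q G, (P : Subgroup G) ≤ normalizer ((A : Subgroup G) : Set G) →
      (P : Subgroup G) ≤ normalizer ((B : Subgroup G) : Set G) →
      (A : Subgroup G) ⊔ N = (B : Subgroup G) ⊔ N := by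
    intro A B hA hB
    have e := ih _ hlt (G ⧸ N) rfl (Cfsg.Lib.GaschutzYen.isPSolvable_quotient N hsol)
      (hH.of_surjective π hπs) (K.map π) (hKp.coprime_dvd_left (Subgroup.card_map_dvd K π))
      (fun h => hKq (h.trans (Subgroup.index_map_dvd K hπs)))
      (P.mapSurjective hπs) (A.mapSurjective hπs) (B.mapSurjective hπs)
      (by rw [Sylow.coe_mapSurjective, Sylow.coe_mapSurjective]
          exact le_trans (map_mono hA) (le_normalizer_map _))
      (by rw [Sylow.coe_mapSurjective, Sylow.coe_mapSurjective]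
          exact le_trans (map_mono hB) (le_normalizer_map _))
    have := congrArg (fun S : Sylow q (G ⧸ N) => ((S : Subgroup (G ⧸ N))).comap π) e
    simpa [Subgroup.comap_map_eq, hπ, QuotientGroup.ker_mk'] using this
  rcases hNc with hNq | hNq
  · have hle : ∀ Q : Sylow q G, N ≤ (Q : Subgroup G) := fun Q => by
      exact Cfsg.Lib.Thompson.le_sylow_of_normal hNq Q
    refine Sylow.ext ?_
    have := huniq Q1 Q2 h1 h2
    rwa [sup_eq_left.2 (hle Q1), sup_eq_left.2 (hle Q2)] at this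
  · have hNp : (Nat.card N).Coprime p := hKp.coprime_dvd_left (Subgroup.card_dvd_of_le hNK)
    have hinv : ∀ θ : Cfsg.IrrCharacter N, (∀ x ∈ (P : Subgroup G), conjN N x (θ : N → ℂ) = θ) →
        ∀ x ∈ (Q1 : Subgroup G), conjN N x (θ : N → ℂ) = θ := by
      intro θ hθ x hx
      letI := Fintype.ofFinite (N ⊔ (P : Subgroup G) : Subgroup G)
      obtain ⟨η, hη⟩ := exists_extension N hNp _ P.isPGroup' θ hθ
      obtain ⟨hUI, hI⟩ := inertia_index hH N (N ⊔ (P : Subgroup G))
        (fun h => P.not_dvd_index (h.trans (Subgroup.index_dvd_of_le le_sup_right))) le_sup_left η.2 θ.2 hη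
        (fun h => hp.out.coprime_iff_not_dvd.1 hNp.symm (h.trans (IsIrrCharacter.deg_dvd θ.2)))
      obtain ⟨Q3, hQ3, hQ3T, -⟩ := exists_invariant_sylow_le K hKp hKq _ P.isPGroup'
        (inertia N (θ : N → ℂ)) (le_sup_right.trans hUI) hI
      have hle : (Q1 : Subgroup G) ⊔ N ≤ inertia N (θ : N → ℂ) := by
        rw [huniq Q1 Q3 h1 hQ3]
        exact sup_le hQ3T (le_inertia (isClassFunction_irr θ))
      exact mem_inertia.1 (hle (Subgroup.mem_sup_left hx))
    have hCQ := centralizer_le hpq N (hp.out.coprime_iff_not_dvd.1 hNp.symm) hNq _ _ P.isPGroup'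
      Q1.isPGroup' h1 hinv
    -- both Sylow subgroups lie in `X = Q1 N`
    set X : Subgroup G := (Q1 : Subgroup G) ⊔ N with hX
    have hPX : (P : Subgroup G) ≤ normalizer (X : Set G) :=
      Coprime.le_normalizer_sup h1 le_normalizer_of_normal
    have hQ2X : (Q2 : Subgroup G) ≤ X := by
      rw [hX, huniq Q1 Q2 h1 h2]; exact le_sup_left
    have hXc : (Nat.card X).Coprime p := by
      rw [hX, sup_comm]
      refine Nat.Coprime.coprime_dvd_left (Components.card_sup_dvd_mul N (Q1 : Subgroup G)) ?_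
      refine Nat.Coprime.mul_left hNp ?_
      rw [Sylow.card_eq_multiplicity]
      exact ((Nat.coprime_primes hq.out hp.out).2 hpq.symm).pow_left _
    haveI := P.isPGroup'.isNilpotent
    obtain ⟨m, hm⟩ := IsPGroup.iff_card.1 P.isPGroup'
    obtain ⟨c, hc, hce⟩ := Coprime.invariant_sylow_conj hPX
      (by rw [hm]; exact hXc.symm.pow_left m) (.inl inferInstance) q
      (Q1.subtype (le_sup_left : _ ≤ X)) (Q2.subtype hQ2X)
      (by rwa [Sylow.coe_subtype, map_subgroupOf_eq_of_le le_sup_left])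
      (by rwa [Sylow.coe_subtype, map_subgroupOf_eq_of_le hQ2X])
    rw [Sylow.smul_subtype le_sup_left c] at hce
    rw [← Sylow.subtype_injective hce]
    symm
    rw [Subgroup.smul_def, Sylow.smul_eq_iff_mem_normalizer]
    obtain ⟨y, hy, z, hz, hyz⟩ := Coprime.mem_sup_of_le_normalizer'
      (h := (le_normalizer_of_normal : (Q1 : Subgroup G) ≤ normalizer (N : Set G))) (x := (c : G)) |>.1 (by rw [sup_comm]; exact c.2)
    rw [← hyz]
    refine mul_mem (le_normalizer hy) (centralizer_le_normalizer _ (hCQ ⟨hz, ?_⟩))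
    refine mem_centralizer_iff.2 ?_
    intro a ha
    have hac : a * (c : G) = (c : G) * a := mem_centralizer_iff.1 hc a ha
    have hay : a * y * a⁻¹ ∈ (Q1 : Subgroup G) := (mem_normalizer_iff.1 (h1 ha) y).1 hy
    have haz : a * z * a⁻¹ ∈ N := Subgroup.Normal.conj_mem inferInstance z hz a
    have hcy : (a * y * a⁻¹)⁻¹ * y = (a * z * a⁻¹) * z⁻¹ := by
      have e : a * y * a⁻¹ * (a * z * a⁻¹) = y * z := by
        calc _ = a * (y * z) * a⁻¹ := by group
          _ = _ := by rw [hyz, hac, mul_inv_cancel_right]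
      calc (a * y * a⁻¹)⁻¹ * y = (a * y * a⁻¹)⁻¹ * (y * z) * z⁻¹ := by group
        _ = _ := by rw [← e]; group
    have hcop : (Nat.card N).Coprime (Nat.card (Q1 : Subgroup G)) := by
      rw [Sylow.card_eq_multiplicity]
      exact (hq.out.coprime_iff_not_dvd.2 hNq).symm.pow_right _
    have h := Coprime.eq_one_of_coprime hcop (x := (a * z * a⁻¹) * z⁻¹) (mul_mem haz (inv_mem hz))
      (by rw [← hcy]; exact mul_mem (inv_mem hay) hy)
    exact mul_inv_eq_iff_eq_mul.1 (mul_inv_eq_one.1 h)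

end Cfsg.Lib.Blocks.CommSylow
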