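import Mathlib
import Cfsg.Agent.Blocks.CommSylow.Unique
import Cfsg.Agent.Blocks.KernelFrattini

/-!
# Degrees prime to `p` force `q` out of `G/O_{p'}(G)`
-/

set_option autoImplicit false
set_option linter.unusedSectionVars false
set_option linter.style.haveILetI false

namespace Cfsg.Lib.Blocks.CommSylow

open Cfsg.Lib.Chars Subgroup
open scoped commutatorElement

universe u

variable {G : Type u} [Group G] [Finite G] {p q : ℕ}

/-- The normaliser of a Sylow subgroup covers the normaliser of its image. -/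
theorem exists_normalizer_lift [hq : Fact q.Prime] {H : Type u} [Group H] (f : G →* H)
    (Q : Sylow q G) {x : G}
    (hx : f x ∈ normalizer (((Q : Subgroup G).map f : Subgroup H) : Set H)) :
    ∃ z ∈ normalizer ((Q : Subgroup G) : Set G), f z = f x := by
  have hQX : (Q : Subgroup G) ≤ ((Q : Subgroup G).map f).comap f := le_comap_map _ _
  have hgX : ((x • Q : Sylow q G) : Subgroup G) ≤ ((Q : Subgroup G).map f).comap f := by
    rintro _ ⟨y, hy, rfl⟩
    rw [mem_comap]
    simp only [MulDistribMulAction.toMonoidEnd_apply, MulDistribMulAction.toMonoidHom_apply,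
      MulAut.smul_def, MulAut.conj_apply, map_mul, map_inv]
    exact (mem_normalizer_iff.1 hx _).1 (mem_map_of_mem _ hy)
  obtain ⟨y, hy⟩ := MulAction.exists_smul_eq ↥(((Q : Subgroup G).map f).comap f)
    (Q.subtype hQX) ((x • Q).subtype hgX)
  rw [Sylow.smul_subtype hQX y] at hy
  have h := Sylow.subtype_injective hy
  have h' : ((y : G)⁻¹ * x) • Q = Q := by
    rw [mul_smul, ← h]
    exact inv_smul_smul (y : G) Q
  have hn := Sylow.smul_eq_iff_mem_normalizer.1 h'
  obtain ⟨w, hw, hwy⟩ := mem_map.1 (mem_comap.1 (y.2 : (y : G) ∈ _))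
  exact ⟨w * ((y : G)⁻¹ * x), mul_mem (Subgroup.le_normalizer hw) hn,
    by rw [map_mul, map_mul, map_inv, hwy, mul_inv_cancel_left]⟩

/-- An element commuting with a subgroup normalises it. -/
theorem mem_normalizer_of_commute {R : Subgroup G} {v : G} (h : ∀ w ∈ R, v * w = w * v) :
    v ∈ normalizer (R : Set G) :=
  centralizer_le_normalizer (R : Set G) (mem_centralizer_iff.2 fun w hw => (h w hw).symm)

/-- The join of a normalised subgroup with a complement to a larger one is normal. -/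
theorem split_conj_mem (P R N W : Subgroup G) (hNP : N ≤ P) (hPW : P ≤ normalizer (W : Set G))
    (hRP : ∀ r ∈ R, ∀ y ∈ P, r * y * r⁻¹ * y⁻¹ ∈ W)
    (hdec : ∀ x ∈ P, ∃ r ∈ R, ∃ z ∈ N, x = r * z) {g x : G} (hg : g ∈ P) (hx : x ∈ W ⊔ N) :
    g * x * g⁻¹ ∈ W ⊔ N := by
  obtain ⟨w, hw, z, hz, rfl⟩ := (Coprime.mem_sup_of_le_normalizer (hNP.trans hPW)).1 hx
  obtain ⟨r, hr, y, hy, rfl⟩ := hdec g hg
  have h1 : r * y * w * (r * y)⁻¹ ∈ W := (mem_normalizer_iff.1 (hPW hg) w).1 hw
  have h2 : y * z * y⁻¹ ∈ N := N.mul_mem (N.mul_mem hy hz) (N.inv_mem hy)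
  have e : r * y * (w * z) * (r * y)⁻¹ =
      r * y * w * (r * y)⁻¹ * (r * (y * z * y⁻¹) * r⁻¹ * (y * z * y⁻¹)⁻¹ * (y * z * y⁻¹)) := by group
  rw [e]
  exact (W ⊔ N).mul_mem (Subgroup.mem_sup_left h1)
    ((W ⊔ N).mul_mem (Subgroup.mem_sup_left (hRP r hr _ (hNP h2))) (Subgroup.mem_sup_right h2))

/-- A complemented abelian normal subgroup is not inside the derived subgroup. -/
theorem exists_linear_of_split [hp : Fact p.Prime] (P R N : Subgroup G) (hP : IsPGroup p P)
    (hRP : R ≤ P) (hNP : N ≤ P) (hR1 : R ≠ ⊥) (hPR : P ≤ normalizer (R : Set G))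
    (hdec : ∀ x ∈ P, ∃ r ∈ R, ∃ z ∈ N, x = r * z) (hRN : ∀ r ∈ R, r ∈ N → r = 1)
    (hab : ∀ r ∈ R, ∀ s ∈ R, r * s = s * r) {V : Subgroup G} (hRV : R ≤ V) {hVP : V ≤ P} :
    ∃ (μ : P →* ℂˣ) (w : G) (hw : w ∈ V), w ∈ R ∧ μ ⟨w, hVP hw⟩ ≠ 1 := by
  haveI := hP.isNilpotent
  obtain ⟨W, hW⟩ : ∃ W : Subgroup G, W = ⁅R, P⁆ := ⟨_, rfl⟩
  have hWlt : W < R := by rw [hW]; exact Coprime.commutator_lt_of_isNilpotent hRP hR1 hPR
  obtain ⟨r0, hr0, hr0W⟩ := SetLike.exists_of_lt hWlt
  have hPW : P ≤ normalizer (W : Set G) := by rw [hW]; exact Coprime.le_normalizer_commutator_right P R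
  have hcW : ∀ r ∈ R, ∀ y ∈ P, r * y * r⁻¹ * y⁻¹ ∈ W := fun r hr y hy => by
    rw [hW, ← commutatorElement_def]
    exact Subgroup.commutator_mem_commutator hr hy
  haveI hSn : ((W ⊔ N).subgroupOf P).Normal := ⟨fun x hx g =>
    Subgroup.mem_subgroupOf.2 (split_conj_mem P R N W hNP hPW hcW hdec g.2 (Subgroup.mem_subgroupOf.1 hx))⟩
  have hmod : ∀ t : P, (t : G) ∈ N → QuotientGroup.mk' ((W ⊔ N).subgroupOf P) t = 1 := fun t ht =>
    (QuotientGroup.eq_one_iff t).2 (Subgroup.mem_subgroupOf.2 (Subgroup.mem_sup_right ht))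
  have hcomm : commutator P ≤ (W ⊔ N).subgroupOf P := by
    rw [commutator_def, Subgroup.commutator_le]
    rintro a - b -
    obtain ⟨r, hr, y, hy, hry⟩ := hdec a a.2
    obtain ⟨s, hs, z, hz, hsz⟩ := hdec b b.2
    have ea : a = (⟨r, hRP hr⟩ : P) * ⟨y, hNP hy⟩ := Subtype.ext hry
    have eb : b = (⟨s, hRP hs⟩ : P) * ⟨z, hNP hz⟩ := Subtype.ext hsz
    have hrs : (⟨r, hRP hr⟩ : P) * ⟨s, hRP hs⟩ = ⟨s, hRP hs⟩ * ⟨r, hRP hr⟩ := Subtype.ext (hab r hr s hs)
    rw [← QuotientGroup.eq_one_iff, ← QuotientGroup.mk'_apply, map_commutatorElement, ea, eb,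
      map_mul, map_mul, hmod ⟨y, hNP hy⟩ hy, hmod ⟨z, hNP hz⟩ hz, mul_one, mul_one,
      commutatorElement_eq_one_iff_mul_comm, ← map_mul, ← map_mul, hrs]
  have hr0S : (⟨r0, hRP hr0⟩ : P) ∉ (W ⊔ N).subgroupOf P := by
    intro h
    rw [Subgroup.mem_subgroupOf] at h
    obtain ⟨w, hw, z, hz, hwz⟩ := (Coprime.mem_sup_of_le_normalizer (hNP.trans hPW)).1 h
    have hz1 : z = 1 := by
      refine hRN z ?_ hz
      rw [show z = w⁻¹ * (w * z) by group, hwz]
      exact R.mul_mem (R.inv_mem (hWlt.le hw)) hr0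
    rw [hz1, mul_one] at hwz
    change w = r0 at hwz
    exact hr0W (hwz ▸ hw)
  obtain ⟨φ, hφ⟩ := CommGroup.exists_apply_ne_one_of_hasEnoughRootsOfUnity
    (Abelianization P) ℂ (a := Abelianization.of (⟨r0, hRP hr0⟩ : P))
    (fun h => hr0S (hcomm ((Abelianization.ker_of P).le h)))
  exact ⟨φ.comp Abelianization.of, r0, hRV hr0, hr0, hφ⟩

/-- A linear character of `P` not trivial on `[V, Q]`. -/
theorem exists_linear [hp : Fact p.Prime] (V Q P : Subgroup G) [V.Normal] [IsMulCommutative V]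
    (hP : IsPGroup p P) (hVP : V ≤ P) (hcop : (Nat.card Q).Coprime (Nat.card V))
    (hR1 : ⁅V, Q⁆ ≠ ⊥)
    (hdec : ∀ x ∈ P, ∃ v ∈ V, ∃ z ∈ P ⊓ normalizer (Q : Set G), x = v * z) :
    ∃ (μ : P →* ℂˣ) (w : G) (hw : w ∈ V), w ∈ ⁅V, Q⁆ ∧ μ ⟨w, hVP hw⟩ ≠ 1 := by
  haveI := hP.isNilpotent
  obtain ⟨hinf, hsup⟩ := Coprime.abelian_coprime_decomp (A := Q) (V := V) le_normalizer_of_normal hcop
  set R := ⁅V, Q⁆ with hR
  set Np := P ⊓ normalizer (Q : Set G) with hNp
  have hRV : R ≤ V := Coprime.commutator_le_of_le_normalizer le_normalizer_of_normal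
  have hVcomm : ∀ a ∈ V, ∀ b ∈ V, a * b = b * a := fun a ha b hb =>
    congrArg Subtype.val (mul_comm' (⟨a, ha⟩ : V) ⟨b, hb⟩)
  have hCN : V ⊓ centralizer (Q : Set G) ≤ Np :=
    le_inf (inf_le_left.trans hVP) (inf_le_right.trans (centralizer_le_normalizer _))
  have hVR : ∀ v ∈ V, v ∈ normalizer (R : Set G) := fun v hv =>
    mem_normalizer_of_commute fun w hw => hVcomm v hv w (hRV hw)
  have hdecR : ∀ x ∈ P, ∃ r ∈ R, ∃ z ∈ Np, x = r * z := by
    intro x hx
    obtain ⟨v, hv, z, hz, rfl⟩ := hdec x hx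
    have hv' : v ∈ R ⊔ (V ⊓ centralizer (Q : Set G)) := by
      rw [sup_comm, hsup]; exact hv
    obtain ⟨r, hr, c, hc, rfl⟩ :=
      (Coprime.mem_sup_of_le_normalizer (N := R) (H := V ⊓ centralizer (Q : Set G))
        (fun c hc => hVR c (Subgroup.mem_inf.1 hc).1)).1 hv'
    exact ⟨r, hr, c * z, mul_mem (hCN hc) hz, by group⟩
  have hzR : ∀ z ∈ normalizer (Q : Set G), ∀ w ∈ R, z * w * z⁻¹ ∈ R := by
    intro z hz
    have hle : R ≤ R.comap (MulAut.conj z).toMonoidHom := by
      rw [hR, Subgroup.commutator_le]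
      intro a ha b hb
      rw [mem_comap, MulEquiv.coe_toMonoidHom, MulAut.conj_apply, conjugate_commutatorElement]
      exact commutator_mem_commutator (Subgroup.Normal.conj_mem inferInstance a ha z)
        ((mem_normalizer_iff.1 hz b).1 hb)
    exact fun w hw => hle hw
  have hPR : P ≤ normalizer (R : Set G) := by
    intro x hx
    obtain ⟨v, hv, z, hz, rfl⟩ := hdec x hx
    refine mul_mem (hVR v hv) (Coprime.mem_normalizer_of_conj_mem (fun w hw => hzR z hz.2 w hw) ?_)
    intro w hw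
    simpa using hzR z⁻¹ (inv_mem hz.2) w hw
  have hRN : ∀ r ∈ R, r ∈ Np → r = 1 := by
    intro r hr hrN
    rw [← Subgroup.mem_bot, ← hinf]
    refine ⟨⟨hRV hr, mem_centralizer_iff.2 fun y hy => ?_⟩, hr⟩
    have h1 : r * y * r⁻¹ * y⁻¹ ∈ V ⊓ Q := by
      refine ⟨?_, Q.mul_mem ((mem_normalizer_iff.1 hrN.2 y).1 hy) (Q.inv_mem hy)⟩
      rw [show r * y * r⁻¹ * y⁻¹ = r * (y * r⁻¹ * y⁻¹) by group]
      exact V.mul_mem (hRV hr) (Subgroup.Normal.conj_mem inferInstance _ (V.inv_mem (hRV hr)) y)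
    rw [Coprime.inf_eq_bot_of_coprime hcop.symm, mem_bot, mul_inv_eq_one, mul_inv_eq_iff_eq_mul] at h1
    exact h1.symm
  exact exists_linear_of_split P R Np hP (hRV.trans hVP) inf_le_left hR1 hPR hdecR hRN
    (fun r hr s hs => hVcomm r (hRV hr) s (hRV hs)) hRV

/-- The Sylow `q`-subgroups centralise an abelian normal `p`-subgroup when `q` divides only the
`p'`-core of the quotient. -/
theorem le_centralizer_of_abelian [hp : Fact p.Prime] [hq : Fact q.Prime] (hpq : p ≠ q)
    (hH : Hyp p q G) {H : Type u} [Group H] [Finite H] (f : G →* H)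
    (hf : Function.Surjective f) (V : Subgroup G) [V.Normal] [IsMulCommutative V]
    (hker : f.ker = V) (hV : IsPGroup p V) (K : Subgroup H) [K.Normal]
    (hKp : (Nat.card K).Coprime p) (hKq : ¬ q ∣ K.index) (hsolH : Cfsg.IsPSolvable q H) :
    ∀ Q : Sylow q G, (Q : Subgroup G) ≤ centralizer (V : Set G) := by
  classical
  haveI := Fintype.ofFinite G
  haveI := Fintype.ofFinite V
  obtain ⟨P⟩ : Nonempty (Sylow p G) := inferInstance
  haveI := Fintype.ofFinite (P : Subgroup G)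
  have hVP : V ≤ (P : Subgroup G) := Cfsg.Lib.Thompson.le_sylow_of_normal hV P
  set Pb := P.mapSurjective hf with hPb
  obtain ⟨Qb, hQb, -, -⟩ := exists_invariant_sylow_le K hKp hKq _ Pb.isPGroup' ⊤ le_top
    (by rw [Subgroup.index_top]; exact hq.out.not_dvd_one)
  obtain ⟨Q, hQ⟩ := Sylow.mapSurjective_surjective hf q Qb
  have hQe : (Qb : Subgroup H) = (Q : Subgroup G).map f := by
    rw [← hQ, Sylow.coe_mapSurjective]
  suffices hQV : (Q : Subgroup G) ≤ centralizer (V : Set G) by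
    intro Q'
    haveI : (centralizer (V : Set G)).Normal := Subgroup.normal_centralizer
    obtain ⟨g, hg⟩ := MulAction.exists_smul_eq G Q Q'
    intro x hx
    rw [← hg] at hx
    obtain ⟨y, hy, rfl⟩ := hx
    exact Subgroup.Normal.conj_mem inferInstance y (hQV hy) g
  obtain ⟨mv, hmv⟩ := IsPGroup.iff_card.1 hV
  have hcop : (Nat.card (Q : Subgroup G)).Coprime (Nat.card V) := by
    rw [Sylow.card_eq_multiplicity, hmv]
    exact ((Nat.coprime_primes hq.out hp.out).2 hpq.symm).pow _ _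
  by_contra hQV
  have hR1 : ⁅V, (Q : Subgroup G)⁆ ≠ ⊥ := by
    intro h0
    refine hQV fun y hy => mem_centralizer_iff.2 fun v hv => ?_
    have := commutator_mem_commutator (H₁ := V) (H₂ := (Q : Subgroup G)) hv hy
    rw [h0, mem_bot, commutatorElement_eq_one_iff_mul_comm] at this
    exact this
  have hdec : ∀ x ∈ (P : Subgroup G), ∃ v ∈ V,
      ∃ z ∈ (P : Subgroup G) ⊓ normalizer ((Q : Subgroup G) : Set G), x = v * z := by
    intro x hx
    have h1 : f x ∈ normalizer (((Q : Subgroup G).map f : Subgroup H) : Set H) := by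
      rw [← hQe]
      exact hQb (by rw [hPb, Sylow.coe_mapSurjective]; exact mem_map_of_mem f hx)
    obtain ⟨z, hz, hzx⟩ := exists_normalizer_lift f Q h1
    have hv : x * z⁻¹ ∈ V := by
      rw [← hker, MonoidHom.mem_ker, map_mul, map_inv, hzx, mul_inv_cancel]
    refine ⟨x * z⁻¹, hv, z, ⟨?_, hz⟩, by group⟩
    rw [show z = (x * z⁻¹)⁻¹ * x by group]
    exact (P : Subgroup G).mul_mem ((P : Subgroup G).inv_mem (hVP hv)) hx
  obtain ⟨μ, w, hw, hwR, hμw⟩ := exists_linear V (Q : Subgroup G) (P : Subgroup G) P.isPGroup' hVP hcop hR1 hdec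
  set lam := μ.comp (Subgroup.inclusion hVP) with hlam
  obtain ⟨hPI, hI⟩ := inertia_index hH V (P : Subgroup G) P.not_dvd_index hVP
    (η := fun x => (μ x : ℂ)) (θ := fun v => (lam v : ℂ))
    (isIrrCharacter_linear μ) (isIrrCharacter_linear lam) (fun _ => rfl) (by
      have h1 : deg (fun v => (lam v : ℂ)) = 1 := by
        apply Nat.cast_injective (R := ℂ)
        rw [← irr_apply_one_eq_deg ⟨_, isIrrCharacter_linear lam⟩, Nat.cast_one]
        show ((lam 1 : ℂˣ) : ℂ) = 1
        rw [map_one, Units.val_one]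
      rw [h1]; exact hp.out.not_dvd_one)
  set T := inertia V (fun v : V => (lam v : ℂ)) with hT
  have hVT : V ≤ T := le_inertia (isClassFunction_irr ⟨_, isIrrCharacter_linear lam⟩)
  have hTb : (T.map f).comap f = T := by
    rw [Subgroup.comap_map_eq, hker, sup_eq_left.2 hVT]
  obtain ⟨Qc, hQc, hQcT, -⟩ := exists_invariant_sylow_le K hKp hKq _ Pb.isPGroup' (T.map f)
    (by rw [hPb, Sylow.coe_mapSurjective]; exact map_mono hPI)
    (fun h => hI (h.trans (Subgroup.index_map_dvd T hf)))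
  have hQQ : Qb = Qc :=
    eq_of_invariant hpq _ H rfl hsolH (hH.of_surjective f hf) K hKp hKq Pb Qb Qc hQb hQc
  have hQT : (Q : Subgroup G) ≤ T := by
    rw [← hTb, ← Subgroup.map_le_iff_le_comap, ← hQe, hQQ]
    exact hQcT
  have hker' : ⁅V, (Q : Subgroup G)⁆ ≤ (lam.ker).map V.subtype := by
    rw [Subgroup.commutator_le]
    intro v hv y hy
    refine ⟨⟨v, hv⟩ * (MulAut.conjNormal y (⟨v, hv⟩ : V))⁻¹, ?_, ?_⟩
    · rw [SetLike.mem_coe, MonoidHom.mem_ker, map_mul, map_inv, mul_inv_eq_one]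
      have := congrFun (mem_inertia.1 (hQT hy)) ⟨v, hv⟩
      rw [conjN_eq_comp] at this
      exact (Units.ext this).symm
    · rw [Subgroup.coe_subtype, Subgroup.coe_mul, Subgroup.coe_inv, MulAut.conjNormal_apply,
        commutatorElement_def]
      show v * (y * v * y⁻¹)⁻¹ = _
      group
  obtain ⟨w', hw', hwr⟩ := hker' hwR
  apply hμw
  rw [show (⟨w, hVP hw⟩ : (P : Subgroup G)) = Subgroup.inclusion hVP w' from Subtype.ext hwr.symm]
  exact hw'

/-- When every degree prime to `p` is prime to `q`, the prime `q` does not divide the order. -/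
theorem not_dvd_card [hp : Fact p.Prime] [hq : Fact q.Prime] (hpq : p ≠ q) :
    ∀ (n : ℕ) (G : Type u) [Group G] [Finite G], Nat.card G = n → Cfsg.IsPSolvable p G →
      Cfsg.IsPSolvable q G → Hyp p q G → Cfsg.pPrimeCore p G = ⊥ → ¬ q ∣ Nat.card G := by
  classical
  intro n
  induction n using Nat.strong_induction_on with
  | _ n ih => ?_
  intro G _ _ hn hps hqs hH hO hd
  have hC := centralizer_pCore_le_of_isPSolvable p hps hO
  haveI := Components.pCore_normal' (G := G) p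
  set M := Cfsg.pCore p G with hM
  have hMp : IsPGroup p M := Components.isPGroup_pCore p
  have hMne : M ≠ ⊥ := by
    intro h0
    rw [h0] at hC
    have : (⊤ : Subgroup G) ≤ ⊥ := fun g _ => hC (mem_centralizer_iff.2 fun y hy => by
      rw [mem_bot.1 hy, one_mul, mul_one])
    have hsub : Nat.card G = 1 := by
      rw [← Subgroup.card_top, le_bot_iff.1 this, Subgroup.card_bot]
    rw [hsub] at hd
    exact hq.out.one_lt.ne' (Nat.dvd_one.1 hd)
  -- `q` divides only the `p'`-core of `G / M`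
  haveI := Components.pPrimeCore_normal' (G := G ⧸ M) p
  set K := Cfsg.pPrimeCore p (G ⧸ M) with hK
  have hlt : Nat.card ((G ⧸ M) ⧸ K) < n := by
    refine lt_of_le_of_lt ?_ (hn ▸ Coprime.card_quotient_lt hMne)
    exact Nat.card_le_card_of_surjective _ (QuotientGroup.mk'_surjective K)
  have hqM := QuotientGroup.mk'_surjective M
  have hKq : ¬ q ∣ K.index := by
    rw [Subgroup.index_eq_card]
    exact ih _ hlt ((G ⧸ M) ⧸ K) rfl
      (Cfsg.Lib.GaschutzYen.isPSolvable_quotient K (Cfsg.Lib.GaschutzYen.isPSolvable_quotient M hps))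
      (Cfsg.Lib.GaschutzYen.isPSolvable_quotient K (Cfsg.Lib.GaschutzYen.isPSolvable_quotient M hqs))
      ((hH.of_surjective _ hqM).of_surjective _ (QuotientGroup.mk'_surjective K))
      Cfsg.Lib.Coprime.pPrimeCore_quotient_eq_bot
  -- pass to the quotient by the Frattini subgroup of `M`
  set F := (frattini M).map M.subtype with hF
  haveI hFn : F.Normal := ConjAct.normal_of_characteristic_of_normal
  have hFM : F ≤ M := map_subtype_le _
  set π := QuotientGroup.mk' F with hπ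
  have hπs : Function.Surjective π := QuotientGroup.mk'_surjective F
  let f : G ⧸ F →* G ⧸ M := QuotientGroup.map F M (MonoidHom.id G) (by rwa [Subgroup.comap_id])
  have hfs : Function.Surjective f := fun y => by
    obtain ⟨x, rfl⟩ := QuotientGroup.mk_surjective y
    exact ⟨x, rfl⟩
  have hker : f.ker = M.map π := by
    ext y
    obtain ⟨x, rfl⟩ := QuotientGroup.mk_surjective y
    rw [MonoidHom.mem_ker, show f (x : G ⧸ F) = (x : G ⧸ M) from rfl, QuotientGroup.eq_one_iff]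
    constructor
    · exact fun hx => mem_map_of_mem π hx
    · rintro ⟨m, hm, hmx⟩
      rw [hπ, QuotientGroup.mk'_apply, QuotientGroup.eq] at hmx
      rw [show x = m * (m⁻¹ * x) by group]
      exact mul_mem hm (hFM hmx)
  haveI : (M.map π).Normal := Subgroup.Normal.map inferInstance π hπs
  haveI : IsMulCommutative (M.map π : Subgroup (G ⧸ F)) := by
    refine ⟨⟨?_⟩⟩
    rintro ⟨_, a, ha, rfl⟩ ⟨_, b, hb, rfl⟩
    apply Subtype.ext
    show π a * π b = π b * π a
    rw [← commutatorElement_eq_one_iff_mul_comm, ← map_commutatorElement, hπ, QuotientGroup.mk'_apply,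
      QuotientGroup.eq_one_iff]
    exact ⟨⁅(⟨a, ha⟩ : M), ⟨b, hb⟩⁆, Cfsg.Lib.PGroups.commutator_le_frattini hMp
      (commutator_mem_commutator (mem_top _) (mem_top _)), map_commutatorElement M.subtype _ _⟩
  obtain ⟨Q⟩ : Nonempty (Sylow q G) := inferInstance
  have hQ := le_centralizer_of_abelian hpq (hH.of_surjective π hπs) f hfs (M.map π) hker (hMp.map π) K
    (Components.coprime_card_pPrimeCore p) hKq (Cfsg.Lib.GaschutzYen.isPSolvable_quotient M hqs)
    (Q.mapSurjective hπs)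
  obtain ⟨mm, hmm⟩ := IsPGroup.iff_card.1 (hMp.to_subgroup (frattini M))
  have hQM : (Q : Subgroup G) ≤ M := by
    refine le_trans (Coprime.le_centralizer_of_frattini le_normalizer_of_normal ?_ ?_) hC
    · rw [Sylow.card_eq_multiplicity, hmm]
      exact ((Nat.coprime_primes hq.out hp.out).2 hpq.symm).pow _ _
    · intro a ha k hk
      rw [← hF, ← QuotientGroup.eq_one_iff, ← QuotientGroup.mk'_apply, ← hπ, map_mul, map_mul, map_mul,
        map_inv, map_inv, mul_inv_eq_one, mul_inv_eq_iff_eq_mul]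
      exact (mem_centralizer_iff.1 (hQ (by rw [Sylow.coe_mapSurjective]; exact mem_map_of_mem π ha))
        (π k) (mem_map_of_mem π hk)).symm
  have hQ1 : (Q : Subgroup G) = ⊥ := by
    rw [← le_bot_iff, ← (IsPGroup.disjoint_of_ne p q hpq _ _ hMp Q.isPGroup').eq_bot]
    exact le_inf hQM le_rfl
  have := Q.card_eq_multiplicity
  rw [hQ1, card_bot] at this
  exact absurd this (Nat.one_lt_pow (Nat.Prime.factorization_pos_of_dvd hq.out Nat.card_pos.ne' hd).ne'
    hq.out.one_lt).ne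

end Cfsg.Lib.Blocks.CommSylow
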